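import Groth.Prelude.Def_Frob
import Groth.Prelude.Def_Flat
import Groth.Prelude.Def_Pi1
import Groth.Agent.Lib.Frob.Basic
import Groth.Agent.Lib.Frob.Perfect
import Groth.Agent.Lib.Weight.GeomPoints
import Groth.Agent.S0415
import Mathlib.FieldTheory.PurelyInseparable.Basic
import Mathlib.AlgebraicGeometry.Morphisms.Separated

/-!
# Purely inseparable universal homeomorphisms onto normal schemes
-/

set_option autoImplicit false
set_option linter.all false
set_option backward.isDefEq.respectTransparency false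
universe u

open CategoryTheory CategoryTheory.Limits AlgebraicGeometry Opposite

noncomputable section

namespace GrothLib.InsepHomeo10

variable (p : ℕ) [Fact p.Prime]

/-- The iterated absolute Frobenius. -/
abbrev G (X : Scheme.{u}) [FrobSch.IsCharP X p] (n : ℕ) : X ⟶ X :=
  (fun g : X ⟶ X => g ≫ FrobSch.frob X p)^[n] (𝟙 X)

theorem G_succ (X : Scheme.{u}) [FrobSch.IsCharP X p] (n : ℕ) : G p X (n + 1) = G p X n ≫ FrobSch.frob X p :=
  Function.iterate_succ_apply' _ _ _

variable {X Y : Scheme.{u}} [FrobSch.IsCharP X p] [FrobSch.IsCharP Y p]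

theorem G_comp (f : X ⟶ Y) : ∀ n, G p X n ≫ f = f ≫ G p Y n
  | 0 => (Category.id_comp f).trans (Category.comp_id f).symm
  | n + 1 => by
    rw [G_succ, G_succ, Category.assoc, FrobSch.frob_comp p f, ← Category.assoc, G_comp f n, Category.assoc]

theorem G_preimage (X : Scheme.{u}) [FrobSch.IsCharP X p] : ∀ (n : ℕ) (U : X.Opens), G p X n ⁻¹ᵁ U = U
  | 0, U => rfl
  | n + 1, U => by
    rw [G_succ]
    exact G_preimage X n U

theorem G_appLE (X : Scheme.{u}) [FrobSch.IsCharP X p] : ∀ (n : ℕ) (U : X.Opens) (e : U ≤ G p X n ⁻¹ᵁ U) (s : Γ(X, U)),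
    (G p X n).appLE U U e s = s ^ p ^ n
  | 0, U, e, s => by
    rw [Scheme.Hom.appLE]
    change X.presheaf.map (𝟙 (op U)) s = _
    rw [X.presheaf.map_id, pow_zero, pow_one]
    rfl
  | n + 1, U, e, s => by
    have h : (G p X (n + 1)).appLE U U e =
        (G p X n ≫ FrobSch.frob X p).appLE U U (by rw [← G_succ]; exact e) := by
      congr 1
      exact G_succ p X n
    have h' : (FrobSch.frob X p).appLE U U le_rfl ≫ (G p X n).appLE U U (G_preimage p X n U).ge =
        (G p X n ≫ FrobSch.frob X p).appLE U U (by rw [← G_succ]; exact e) :=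
      Scheme.Hom.appLE_comp_appLE _ _ _ _ _ _ _
    rw [h, ← h']
    show (G p X n).appLE U U _ ((FrobSch.frob X p).appLE U U le_rfl s) = _
    have h2 : (FrobSch.frob X p).appLE U U le_rfl s = s ^ p := by
      rw [Scheme.Hom.appLE]
      change X.presheaf.map (𝟙 (op U)) (s ^ p) = _
      rw [X.presheaf.map_id]
      rfl
    rw [h2, G_appLE X n U _ (s ^ p), ← pow_mul, ← pow_succ']

theorem isUnivHomeo_G (X : Scheme.{u}) [FrobSch.IsCharP X p] : ∀ n, FlatMor.IsUnivHomeo (G p X n)
  | 0 => GrothLib.Frob.isUnivHomeo_of (𝟙 X)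
  | n + 1 => by
    rw [G_succ]
    exact GrothLib.Frob.isUnivHomeo_comp _ _ (isUnivHomeo_G X n) (GrothLib.Frob.isUnivHomeo_frob X p)

omit [FrobSch.IsCharP X p] [FrobSch.IsCharP Y p] in
theorem isIso_G_field (k : Type u) [Field k] [CharP k p] [PerfectField k] :
    ∀ n, IsIso (G p (Spec (CommRingCat.of k)) n)
  | 0 => inferInstanceAs (IsIso (𝟙 _))
  | n + 1 => by
    rw [G_succ]
    haveI := isIso_G_field k n
    haveI : ExpChar k p := ExpChar.prime Fact.out
    haveI : PerfectRing k p := PerfectField.toPerfectRing p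
    haveI : IsIso (FrobSch.frob (Spec (CommRingCat.of k)) p) :=
      GrothLib.Frob.isPerfect_Spec p k (CharP.cast_eq_zero k p) (bijective_frobenius k p)
    infer_instance

theorem isIntegrallyClosed_of_normal {C : Scheme.{u}} (hC : Pi1.IsNormalScheme C) [IsIntegral C]
    {W : C.Opens} (hW : IsAffineOpen W) [Nonempty W] : IsIntegrallyClosed Γ(C, W) := by
  refine IsIntegrallyClosed.of_localization_maximal fun P _ hP => ?_
  let x : PrimeSpectrum Γ(C, W) := ⟨P, hP.isPrime⟩
  letI := TopCat.Presheaf.algebra_section_stalk C.presheaf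
    (⟨hW.fromSpec x, hW.range_fromSpec.le ⟨x, rfl⟩⟩ : W)
  haveI := hW.isLocalization_stalk' x (hW.range_fromSpec.le ⟨x, rfl⟩)
  haveI := (hC (hW.fromSpec x)).2
  exact IsIntegrallyClosed.of_equiv (IsLocalization.algEquiv P.primeCompl (C.presheaf.stalk (hW.fromSpec x))
    (Localization.AtPrime P)).toRingEquiv

omit [FrobSch.IsCharP X p] in
theorem charP_field {R : Type u} [Field R] (f : Γ(Y, ⊤) →+* R) : CharP R p :=
  (CharP.charP_iff_prime_eq_zero Fact.out).2 (by rw [← map_natCast f, FrobSch.IsCharP.natCast_eq_zero, map_zero])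

variable [IsIntegral X] [IsIntegral Y] (u : X ⟶ Y) (e : u (genericPoint X) = genericPoint Y)

/-- The extension of function fields. -/
abbrev φ : Y.functionField ⟶ X.functionField :=
  Y.presheaf.stalkSpecializes (specializes_of_eq e) ≫ u.stalkMap (genericPoint X)

include e in
theorem exists_degree [IsFinite u] [UniversallyInjective u] :
    ∃ n : ℕ, @Module.finrank Y.functionField X.functionField _ _ (φ u e).hom.toAlgebra.toModule = p ^ n ∧
      ∀ x : X.functionField, x ^ p ^ n ∈ (φ u e).hom.range := by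
  let ξ := genericPoint X
  let r : Y.functionField →+* Y.residueField (u ξ) :=
    (Y.residue (u ξ)).hom.comp (Y.presheaf.stalkSpecializes (specializes_of_eq e)).hom
  let r' : X.functionField →+* X.residueField ξ := (X.residue ξ).hom
  have hs : Function.Surjective (Y.presheaf.stalkSpecializes (specializes_of_eq e)) :=
    ((ConcreteCategory.isIso_iff_bijective _).1
      (inferInstanceAs (IsIso (Y.presheaf.stalkCongr (Inseparable.of_eq e.symm)).hom))).2
  let er : Y.functionField ≃+* Y.residueField (u ξ) :=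
    RingEquiv.ofBijective r ⟨r.injective, (Y.residue_surjective _).comp hs⟩
  let er' : X.functionField ≃+* X.residueField ξ :=
    RingEquiv.ofBijective r' ⟨r'.injective, X.residue_surjective _⟩
  have hsq : ∀ y, (u.residueFieldMap ξ).hom (r y) = r' ((φ u e).hom y) := fun y =>
    congrArg (fun m => m.hom (Y.presheaf.stalkSpecializes (specializes_of_eq e) y)) (Scheme.residue_residueFieldMap u ξ)
  letI := (φ u e).hom.toAlgebra
  letI := (u.residueFieldMap ξ).hom.toAlgebra
  haveI : Module.Finite (Y.residueField (u ξ)) (X.residueField ξ) := GrothLib.Weight.finite_residueFieldMap u ξ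
  haveI : IsPurelyInseparable (Y.residueField (u ξ)) (X.residueField ξ) :=
    (((tfae_universallyInjective u).out 0 2 rfl rfl).mp inferInstance).2 ξ
  haveI : CharP (Y.residueField (u ξ)) p := charP_field p ((Y.residue (u ξ)).hom.comp (Y.presheaf.germ ⊤ (u ξ) trivial).hom)
  haveI : ExpChar (Y.residueField (u ξ)) p := ExpChar.prime Fact.out
  obtain ⟨n, hn⟩ := IsPurelyInseparable.finrank_eq_pow (F := Y.residueField (u ξ)) (X.residueField ξ) p
  have hc : (algebraMap (Y.residueField (u ξ)) (X.residueField ξ)).comp er.toRingHom =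
      er'.toRingHom.comp (algebraMap Y.functionField X.functionField) := RingHom.ext hsq
  refine ⟨n, (Algebra.finrank_eq_of_equiv_equiv er er' hc).trans hn, fun x => ?_⟩
  obtain ⟨m, y, hmy⟩ := IsPurelyInseparable.minpoly_eq_X_pow_sub_C (Y.residueField (u ξ)) p (er' x)
  have hpm : 0 < p ^ m := pow_pos (Fact.out : p.Prime).pos m
  have hle : p ^ m ≤ p ^ n := by
    have := minpoly.natDegree_le (A := Y.residueField (u ξ)) (er' x)
    rwa [hmy, Polynomial.natDegree_X_pow_sub_C, hn] at this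
  have hmn : m ≤ n := (Nat.pow_le_pow_iff_right (Fact.out : p.Prime).one_lt).1 hle
  have hx : (er' x) ^ p ^ m = algebraMap (Y.residueField (u ξ)) (X.residueField ξ) y := by
    have := minpoly.aeval (Y.residueField (u ξ)) (er' x)
    rw [hmy, map_sub, map_pow, Polynomial.aeval_X, Polynomial.aeval_C, sub_eq_zero] at this
    exact this
  obtain ⟨z, rfl⟩ := er.surjective y
  refine ⟨z ^ p ^ (n - m), r'.injective ?_⟩
  rw [map_pow, map_pow, map_pow, ← hsq]
  change (algebraMap (Y.residueField (u ξ)) (X.residueField ξ) (er z)) ^ p ^ (n - m) = (er' x) ^ p ^ n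
  rw [← hx, ← pow_mul, ← pow_add, Nat.add_sub_cancel' hmn]

theorem germ_φ (V : Y.Opens) (hξ : u (genericPoint X) ∈ V) (hη : genericPoint Y ∈ V) (a : Γ(Y, V)) :
    (φ u e).hom (Y.presheaf.germ V (genericPoint Y) hη a) =
      X.presheaf.germ (u ⁻¹ᵁ V) (genericPoint X) hξ (u.app V a) := by
  change u.stalkMap _ (Y.presheaf.stalkSpecializes _ (Y.presheaf.germ V _ hη a)) = _
  rw [TopCat.Presheaf.germ_stalkSpecializes_apply]
  exact u.germ_stalkMap_apply V _ hξ a

include e in
theorem exists_local [IsIntegralHom u] [Surjective u] (hY : Pi1.IsNormalScheme Y) (n : ℕ)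
    (hn : ∀ x : X.functionField, x ^ p ^ n ∈ (φ u e).hom.range) (V : Y.Opens) (hV : IsAffineOpen V)
    [Nonempty V] :
    ∃ w : (V : Scheme.{u}) ⟶ X, (u ∣_ V) ≫ w = (u ⁻¹ᵁ V).ι ≫ G p X n := by
  have hW : IsAffineOpen (u ⁻¹ᵁ V) := hV.preimage u
  have hη : genericPoint Y ∈ V :=
    ((genericPoint_spec Y).mem_open_set_iff V.isOpen).mpr (by simpa using ‹Nonempty V›)
  have hξ : u (genericPoint X) ∈ V := e ▸ hη
  haveI : Nonempty ↥(u ⁻¹ᵁ V) := ⟨⟨genericPoint X, hξ⟩⟩
  let gX : Γ(X, u ⁻¹ᵁ V) →+* X.functionField := (X.presheaf.germ _ (genericPoint X) hξ).hom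
  let gY : Γ(Y, V) →+* Y.functionField := (Y.presheaf.germ V (genericPoint Y) hη).hom
  have hgX : Function.Injective gX := germ_injective_of_isIntegral X (genericPoint X) hξ
  have hgY : Function.Injective gY := germ_injective_of_isIntegral Y (genericPoint Y) hη
  have hg : ∀ a, (φ u e).hom (gY a) = gX (u.app V a) := germ_φ u e V hξ hη
  have hinj : Function.Injective (u.app V).hom := fun a b h =>
    hgY ((φ u e).hom.injective (by rw [hg, hg]; exact congrArg gX h))
  haveI := isIntegrallyClosed_of_normal hY hV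
  haveI := functionField_isFractionRing_of_isAffineOpen Y V hV
  have hex : ∀ b : Γ(X, u ⁻¹ᵁ V), ∃ a, (u.app V).hom a = b ^ p ^ n := fun b => by
    obtain ⟨y, hy⟩ := hn (gX b)
    obtain ⟨P, hP, hP0⟩ := IsIntegralHom.isIntegral_app u V hV (b ^ p ^ n)
    have hint : IsIntegral Γ(Y, V) y := ⟨P, hP, (φ u e).hom.injective (by
      rw [map_zero, Polynomial.hom_eval₂, hy, ← map_pow]
      rw [show (φ u e).hom.comp (algebraMap Γ(Y, V) Y.functionField) = gX.comp (u.app V).hom from RingHom.ext hg,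
        ← Polynomial.hom_eval₂, hP0, map_zero])⟩
    obtain ⟨a, ha⟩ := IsIntegrallyClosed.isIntegral_iff.1 hint
    exact ⟨a, hgX (by rw [← hg, map_pow, ← hy]; exact congrArg (φ u e).hom ha)⟩
  choose ψ hψ using hex
  haveI : CharP X.functionField p := charP_field p (X.presheaf.germ ⊤ (genericPoint X) trivial).hom
  let Ψ : Γ(X, u ⁻¹ᵁ V) →+* Γ(Y, V) :=
    { toFun := ψ
      map_one' := hinj (by rw [hψ, one_pow, map_one])
      map_mul' := fun a b => hinj (by rw [map_mul, hψ, hψ, hψ, mul_pow])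
      map_zero' := hinj (by rw [hψ, map_zero, zero_pow (pow_pos (Fact.out : p.Prime).pos n).ne'])
      map_add' := fun a b => hinj (hgX (by
        rw [map_add, map_add, hψ, hψ, hψ, map_pow, map_pow, map_pow, map_add, add_pow_char_pow])) }
  let w₀ : Spec Γ(Y, V) ⟶ X := Spec.map (CommRingCat.ofHom Ψ) ≫ hW.fromSpec
  refine ⟨hV.isoSpec.hom ≫ w₀, ?_⟩
  rw [← cancel_epi hW.isoSpec.inv]
  have h1 : hW.isoSpec.inv ≫ (u ∣_ V) = Spec.map (u.app V) ≫ hV.isoSpec.inv := by
    rw [← cancel_mono V.ι, Category.assoc, Category.assoc, morphismRestrict_ι, ← Category.assoc]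
    change hW.fromSpec ≫ u = Spec.map (u.app V) ≫ hV.fromSpec
    rw [← IsAffineOpen.SpecMap_appLE_fromSpec u hV hW le_rfl, Scheme.Hom.appLE_eq_app]
  rw [← Category.assoc, h1, Category.assoc, Iso.inv_hom_id_assoc, ← Category.assoc]
  change (Spec.map (u.app V) ≫ Spec.map (CommRingCat.ofHom Ψ)) ≫ hW.fromSpec = hW.fromSpec ≫ G p X n
  rw [← IsAffineOpen.SpecMap_appLE_fromSpec (G p X n) hW hW (G_preimage p X n _).ge, ← Spec.map_comp]
  congr 2
  ext b
  exact (hψ b).trans (G_appLE p X n _ _ b).symm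

include e in
theorem exists_factor [IsIntegralHom u] [Surjective u] [X.IsSeparated] [Y.IsSeparated] (hY : Pi1.IsNormalScheme Y)
    (n : ℕ) (hn : ∀ x : X.functionField, x ^ p ^ n ∈ (φ u e).hom.range) :
    ∃ w : Y ⟶ X, u ≫ w = G p X n ∧ w ≫ u = G p Y n := by
  choose V hV hyV _ using fun y : Y => exists_isAffineOpen_mem_and_subset (U := (⊤ : Y.Opens)) (x := y) trivial
  haveI : ∀ y, Nonempty (V y) := fun y => ⟨⟨y, hyV y⟩⟩
  choose w hw using fun y => exists_local p u e hY n hn (V y) (hV y)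
  let 𝒰 : Y.OpenCover := Scheme.openCoverOfIsOpenCover Y V
    (TopologicalSpace.Opens.ext (Set.eq_univ_of_forall fun y => TopologicalSpace.Opens.mem_iSup.2 ⟨y, hyV y⟩))
  have hcompat : ∀ a b : Y, pullback.fst (V a).ι (V b).ι ≫ w a = pullback.snd (V a).ι (V b).ι ≫ w b := by
    intro a b
    let t : pullback (V a).ι (V b).ι ⟶ Y := pullback.fst _ _ ≫ (V a).ι
    let q : pullback u t ⟶ X := pullback.fst _ _
    let r : pullback u t ⟶ pullback (V a).ι (V b).ι := pullback.snd _ _
    haveI : Surjective r := MorphismProperty.pullback_snd _ _ inferInstance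
    haveI : IsReduced (pullback (V a).ι (V b).ι) := isReduced_of_isOpenImmersion t
    have hfac : ∀ (c : Y) (π : pullback (V a).ι (V b).ι ⟶ (V c : Scheme.{u})), π ≫ (V c).ι = t →
        r ≫ π ≫ w c = q ≫ G p X n := by
      intro c π hπ
      have hc : q ≫ u = r ≫ π ≫ (V c).ι := by rw [hπ]; exact pullback.condition
      have hr : Set.range q ⊆ Set.range (u ⁻¹ᵁ V c).ι := by
        rw [Scheme.Opens.range_ι]
        rintro _ ⟨z, rfl⟩
        show u (q z) ∈ V c
        rw [← Scheme.Hom.comp_apply, hc]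
        exact ((π (r z))).2
      let l := IsOpenImmersion.lift (u ⁻¹ᵁ V c).ι q hr
      have hl : l ≫ (u ⁻¹ᵁ V c).ι = q := IsOpenImmersion.lift_fac _ _ _
      have hlu : l ≫ (u ∣_ V c) = r ≫ π := by
        rw [← cancel_mono (V c).ι, Category.assoc, morphismRestrict_ι, ← Category.assoc, hl, hc, Category.assoc]
      rw [← Category.assoc, ← hlu, Category.assoc, hw, ← Category.assoc, hl]
    refine ext_of_isDominant r ?_
    rw [hfac a _ rfl, hfac b _ pullback.condition.symm]
  let W : Y ⟶ X := 𝒰.glueMorphisms w hcompat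
  have hW : ∀ c, (V c).ι ≫ W = w c := 𝒰.ι_glueMorphisms w hcompat
  have h1 : u ≫ W = G p X n := by
    let 𝒱 : X.OpenCover := Scheme.openCoverOfIsOpenCover X (fun y => u ⁻¹ᵁ V y)
      (TopologicalSpace.Opens.ext (Set.eq_univ_of_forall fun x =>
        TopologicalSpace.Opens.mem_iSup.2 ⟨u x, hyV (u x)⟩))
    refine 𝒱.hom_ext _ _ fun c => ?_
    change (u ⁻¹ᵁ V c).ι ≫ u ≫ W = (u ⁻¹ᵁ V c).ι ≫ G p X n
    rw [← hw c, ← hW c, ← Category.assoc, ← morphismRestrict_ι, Category.assoc]
  refine ⟨W, h1, ext_of_isDominant u ?_⟩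
  rw [← Category.assoc, h1, G_comp p u n]

end GrothLib.InsepHomeo10
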